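import Groth.Agent.KFlatLib.StalkTensor
import Groth.Agent.QCohLib.Gen
import Groth.Prelude.Def_CohB1
import Groth.Prelude.Def_Pic

/-!
# Sections generating freely at a point, and `genLocus`
-/

set_option autoImplicit false
universe u

open CategoryTheory CategoryTheory.Limits AlgebraicGeometry TopologicalSpace Opposite
open MonoidalCategory TensorProduct

noncomputable section

namespace AmpleLib

variable {X : Scheme.{u}}

/-- the restriction of a section -/
abbrev res (M : X.Modules) {V W : X.Opens} (h : V ≤ W) (σ : Γ(M, W)) : Γ(M, V) :=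
  M.presheaf.map (homOfLE h).op σ

lemma res_res (M : X.Modules) {U V W : X.Opens} (h : V ≤ W) (h' : U ≤ V) (σ : Γ(M, W)) :
    res M h' (res M h σ) = res M (h'.trans h) σ :=
  QCohLib.map_map' M (homOfLE h') (homOfLE h) σ

lemma res_refl (M : X.Modules) {V : X.Opens} (σ : Γ(M, V)) : res M (le_refl V) σ = σ := by
  change (M.presheaf.map (𝟙 (op V))) σ = σ
  simp

lemma res_smul (M : X.Modules) {V W : X.Opens} (h : V ≤ W) (r : Γ(X, W)) (σ : Γ(M, W)) :
    res M h (r • σ) = X.presheaf.map (homOfLE h).op r • res M h σ :=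
  QCohLib.map_smul' M (homOfLE h) r σ

lemma germ_res (M : X.Modules) {V W : X.Opens} (h : V ≤ W) (σ : Γ(M, W)) {x : X} (hx : x ∈ V) :
    M.presheaf.germ V x hx (res M h σ) = M.presheaf.germ W x (h hx) σ :=
  TopCat.Presheaf.germ_res_apply _ _ _ _ _

lemma germ_smul (M : X.Modules) {W : X.Opens} (r : Γ(X, W)) (σ : Γ(M, W)) {x : X} (hx : x ∈ W) :
    M.presheaf.germ W x hx (r • σ) = X.presheaf.germ W x hx r • M.presheaf.germ W x hx σ :=
  PresheafOfModules.germ_smul (show PresheafOfModules (X.presheaf ⋙ forget₂ CommRingCat RingCat)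
    from M.val) x W hx r σ

/-- `σ` is a free generator of the stalk at `x` -/
def GenAt (M : X.Modules) {W : X.Opens} (σ : Γ(M, W)) {x : X} (hx : x ∈ W) : Prop :=
  Function.Bijective (fun c : X.presheaf.stalk x => c • M.presheaf.germ W x hx σ)

/-- `σ` is a free generator of the sections below `W` -/
def GenOn (M : X.Modules) {W : X.Opens} (σ : Γ(M, W)) : Prop :=
  ∀ (V : X.Opens) (h : V ≤ W), Function.Bijective (fun r : Γ(X, V) => r • res M h σ)

lemma GenOn.res {M : X.Modules} {W W' : X.Opens} {σ : Γ(M, W)} (hσ : GenOn M σ) (h : W' ≤ W) :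
    GenOn M (AmpleLib.res M h σ) := fun V hV => by
  simp only [res_res]
  exact hσ V (hV.trans h)

lemma GenOn.genAt {M : X.Modules} {W : X.Opens} {σ : Γ(M, W)} (hσ : GenOn M σ) {x : X} (hx : x ∈ W) :
    GenAt M σ hx := by
  constructor
  · intro c c' h
    obtain ⟨U, hU, r, rfl⟩ := X.presheaf.exists_germ_eq (x := x) c
    obtain ⟨U', hU', r', rfl⟩ := X.presheaf.exists_germ_eq (x := x) c'
    let V := U ⊓ U' ⊓ W
    have hxV : x ∈ V := ⟨⟨hU, hU'⟩, hx⟩
    have hUV : V ≤ U := inf_le_left.trans inf_le_left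
    have hU'V : V ≤ U' := inf_le_left.trans inf_le_right
    have hWV : V ≤ W := inf_le_right
    dsimp only at h
    rw [← TopCat.Presheaf.germ_res_apply X.presheaf (homOfLE hUV) x hxV r,
      ← TopCat.Presheaf.germ_res_apply X.presheaf (homOfLE hU'V) x hxV r',
      ← germ_res M hWV σ hxV, ← germ_smul, ← germ_smul] at h
    obtain ⟨T, hxT, i₁, i₂, hT⟩ := TopCat.Presheaf.germ_eq _ _ hxV hxV _ _ h
    have e : homOfLE i₁.le = i₁ := rfl
    have e' : i₂ = homOfLE i₁.le := rfl
    rw [← e, e'] at hT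
    change AmpleLib.res M i₁.le _ = AmpleLib.res M i₁.le _ at hT
    rw [res_smul, res_smul, res_res] at hT
    have hr := (hσ T _).1 hT
    have := congrArg (X.presheaf.germ T x hxT) hr
    rwa [TopCat.Presheaf.germ_res_apply, TopCat.Presheaf.germ_res_apply,
      TopCat.Presheaf.germ_res_apply, TopCat.Presheaf.germ_res_apply] at this
  · intro z
    obtain ⟨U, hU, t, rfl⟩ := M.presheaf.exists_germ_eq (x := x) z
    obtain ⟨r, hr⟩ := (hσ (U ⊓ W) inf_le_right).2 (AmpleLib.res M inf_le_left t)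
    refine ⟨X.presheaf.germ (U ⊓ W) x ⟨hU, hx⟩ r, ?_⟩
    dsimp only at hr ⊢
    rw [← germ_res M (inf_le_right : U ⊓ W ≤ W) σ (x := x) ⟨hU, hx⟩, ← germ_smul, hr, germ_res]

lemma genAt_res {M : X.Modules} {V W : X.Opens} (h : V ≤ W) (σ : Γ(M, W)) {x : X} (hx : x ∈ V) :
    GenAt M (res M h σ) hx ↔ GenAt M σ (h hx) := by
  simp only [GenAt, germ_res]

/-- a multiple of a generator generates exactly where the factor is invertible -/
lemma genAt_smul_iff {M : X.Modules} {W : X.Opens} (r : Γ(X, W)) (σ : Γ(M, W)) {x : X} (hx : x ∈ W)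
    (hσ : GenAt M σ hx) : GenAt M (r • σ) hx ↔ x ∈ X.basicOpen r := by
  rw [Scheme.mem_basicOpen X r x hx, GenAt]
  simp only [germ_smul, smul_smul]
  constructor
  · intro h
    obtain ⟨c, hc⟩ := h.2 (M.presheaf.germ W x hx σ)
    refine isUnit_iff_exists_inv'.mpr ⟨c, hσ.1 ?_⟩
    dsimp only at hc ⊢
    rw [one_smul]
    exact hc
  · intro h
    exact hσ.comp h.unit.mulRight.bijective

/-- `tensorMod` is the tensor product of `DCoh` -/
def shT {M N : X.Modules} {W : X.Opens} (m : Γ(M, W)) (n : Γ(N, W)) :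
    Γ(CohB1.tensorMod M N, W) :=
  KFlatLib.shApp M N W (KFlatLib.tm (DCoh.toP.obj M : KFlatLib.PM X.presheaf)
    (DCoh.toP.obj N : KFlatLib.PM X.presheaf) m n)

lemma GenAt.tensor {M N : X.Modules} {W : X.Opens} {m : Γ(M, W)} {n : Γ(N, W)} {x : X} {hx : x ∈ W}
    (hm : GenAt M m hx) (hn : GenAt N n hx) : GenAt (CohB1.tensorMod M N) (shT m n) hx := by
  let R := X.presheaf.stalk x
  let eM : R ≃ₗ[R] M.presheaf.stalk x :=
    LinearEquiv.ofBijective (LinearMap.toSpanSingleton R _ (M.presheaf.germ W x hx m)) hm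
  let eN : R ≃ₗ[R] N.presheaf.stalk x :=
    LinearEquiv.ofBijective (LinearMap.toSpanSingleton R _ (N.presheaf.germ W x hx n)) hn
  let e : R ≃ₗ[R] (KFlatLib.tens M N).presheaf.stalk x :=
    ((TensorProduct.lid R R).symm ≪≫ₗ TensorProduct.congr eM eN) ≪≫ₗ
      LinearEquiv.ofBijective (KFlatLib.stalkTensorLin M N x) (KFlatLib.stalkTensorLin_bijective M N x)
  have h1 : e 1 = KFlatLib.tmGerm M N x hx m n := by
    change KFlatLib.stalkTensorLin M N x (eM 1 ⊗ₜ eN 1) = _
    rw [show eM 1 = M.presheaf.germ W x hx m from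
        one_smul (X.presheaf.stalk x) (M.presheaf.germ W x hx m),
      show eN 1 = N.presheaf.germ W x hx n from
        one_smul (X.presheaf.stalk x) (N.presheaf.germ W x hx n)]
    exact KFlatLib.stalkTensorLin_germ M N x hx m n
  have h2 : ∀ c : R, e c = c • KFlatLib.tmGerm M N x hx m n := fun c => by
    rw [← h1, ← map_smul, smul_eq_mul, mul_one]
  change Function.Bijective fun c : R => c • KFlatLib.tmGerm M N x hx m n
  rw [← show (⇑e : R → _) = fun c => c • KFlatLib.tmGerm M N x hx m n from funext h2]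
  exact e.bijective

lemma one_genOn (W : X.Opens) : GenOn (Coh.structureModule X) (W := W) (1 : Γ(X, W)) := by
  intro V h
  have e : res (Coh.structureModule X) h (1 : Γ(X, W)) = (1 : Γ(X, V)) :=
    map_one (X.presheaf.map (homOfLE h).op).hom
  simp only [e]
  change Function.Bijective fun r : Γ(X, V) => r * 1
  simp only [mul_one]
  exact Function.bijective_id

/-- restriction along an open immersion -/
lemma GenOn.restrict {Y : Scheme.{u}} (j : Y ⟶ X) [IsOpenImmersion j] {M : X.Modules} {W : X.Opens}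
    {σ : Γ(M, W)} (hσ : GenOn M σ) (W' : Y.Opens) (h : j ''ᵁ W' ≤ W) :
    GenOn (M.restrict j) (W := W') (AmpleLib.res M h σ) := by
  intro V hV
  have h' : j ''ᵁ V ≤ W := (j.image_mono hV).trans h
  have hb := (hσ _ h').comp (ConcreteCategory.bijective_of_isIso (j.appIso V).inv)
  have e : (fun r : Γ(Y, V) => r • AmpleLib.res (M.restrict j) hV
      (AmpleLib.res M h σ : Γ(M.restrict j, W'))) =
      (fun r : Γ(X, j ''ᵁ V) => r • AmpleLib.res M h' σ) ∘ (j.appIso V).inv := funext fun r => by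
    exact congrArg (fun t : Γ(M, j ''ᵁ V) =>
      (show Γ(X, j ''ᵁ V) from (j.appIso V).inv r) • t) (res_res M h (j.image_mono hV) σ)
  exact e ▸ hb

/-- a generating global section is an isomorphism from the structure sheaf -/
theorem isIso_unitHom {M : X.Modules} (σ : Γ(M, ⊤)) (h : GenOn M σ) :
    IsIso (QCohLib.unitHom M σ) := by
  rw [Scheme.Modules.Hom.isIso_iff_isIso_app]
  intro V
  exact (ConcreteCategory.isIso_iff_bijective _).mpr (h V le_top)

/-- where a global section generates -/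
theorem genLocus_eq {M : X.Modules} (σ : Γ(M, ⊤)) (W : X.Opens)
    (h : ∀ (x : X), GenAt M σ (show x ∈ (⊤ : X.Opens) from trivial) ↔ x ∈ W) :
    CohB1.genLocus M (QCohLib.unitHom M σ) = W := by
  refine le_antisymm (sSup_le fun U hU x hx => ?_) (le_sSup ?_)
  · have hU' : IsIso ((Scheme.Modules.restrictFunctor U.ι).map (QCohLib.unitHom M σ)) := hU
    rw [← h, ← genAt_res (le_top : U ≤ ⊤) σ hx]
    refine GenOn.genAt (fun V hV => ?_) hx
    have hb := ConcreteCategory.bijective_of_isIso
      (((Scheme.Modules.restrictFunctor U.ι).map (QCohLib.unitHom M σ)).app (U.ι ⁻¹ᵁ V))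
    have eV : U.ι ''ᵁ (U.ι ⁻¹ᵁ V) = V := by
      rw [Scheme.Hom.image_preimage_eq_opensRange_inf, Scheme.Opens.opensRange_ι]
      exact inf_eq_right.mpr hV
    change Function.Bijective ((QCohLib.unitHom M σ).app (U.ι ''ᵁ (U.ι ⁻¹ᵁ V))) at hb
    rw [eV] at hb
    simp only [res_res]
    exact hb
  · change IsIso ((Scheme.Modules.restrictFunctor W.ι).map (QCohLib.unitHom M σ))
    rw [Scheme.Modules.Hom.isIso_iff_isIso_app]
    intro V
    change IsIso ((QCohLib.unitHom M σ).app (W.ι ''ᵁ V))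
    refine (ConcreteCategory.isIso_iff_bijective _).mpr ?_
    refine TopCat.Presheaf.app_bijective_of_stalkFunctor_map_bijective
      (C := AddCommGrpCat.{u}) ((QCohLib.toAbF X).map (QCohLib.unitHom M σ)) (W.ι ''ᵁ V) fun x hx => ?_
    have hxW : x ∈ W := by
      have := hx
      obtain ⟨y, -, rfl⟩ := this
      exact y.2
    have hg := (h x).mpr hxW
    have h1 := (one_genOn (X := X) ⊤).genAt (x := x) (trivial : x ∈ (⊤ : X.Opens))
    let f := ((DerSch.stalkFunctor X x).map (QCohLib.unitHom M σ)).hom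
    have hf1 : f ((Coh.structureModule X).presheaf.germ ⊤ x trivial (1 : Γ(X, ⊤))) =
        M.presheaf.germ ⊤ x trivial σ := by
      refine (DerSch.stalkFunctor_map_germ x (QCohLib.unitHom M σ) ⊤ trivial _).trans ?_
      rw [QCohLib.unitHom_app, one_smul]
      exact germ_res M _ σ _
    change Function.Bijective f
    refine (Function.Bijective.of_comp_iff f h1).mp ?_
    have e : (⇑f ∘ fun c : X.presheaf.stalk x =>
        c • (Coh.structureModule X).presheaf.germ ⊤ x trivial (1 : Γ(X, ⊤))) =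
        fun c => c • M.presheaf.germ ⊤ x trivial σ :=
      funext fun c => (f.map_smul c _).trans (congrArg (c • ·) hf1)
    exact e.symm ▸ hg

end AmpleLib

end
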