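import Groth.Agent.AmpleLib.ChowEGA
import Groth.Agent.ChowLib.Segre

/-!
# H-projective morphisms: base change, composition
-/

set_option autoImplicit false
universe u

open CategoryTheory CategoryTheory.Limits AlgebraicGeometry

noncomputable section

namespace AmpleLib

open ChowLib

variable {S S' : Scheme.{u}} (n : ℕ)

/-- functoriality of `P^n` in the base -/
def poMap (g : S' ⟶ S) : CohB1.ProjSpaceOver n S' ⟶ CohB1.ProjSpaceOver n S :=
  poLift (toPZ n S') (CohB1.ProjSpaceOver.toBase n S' ≫ g)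

@[reassoc] lemma poMap_toPZ (g : S' ⟶ S) : poMap n g ≫ toPZ n S = toPZ n S' := poLift_toPZ _ _

@[reassoc] lemma poMap_toBase (g : S' ⟶ S) :
    poMap n g ≫ CohB1.ProjSpaceOver.toBase n S = CohB1.ProjSpaceOver.toBase n S' ≫ g :=
  poLift_toBase _ _

lemma isPullback_poMap (g : S' ⟶ S) :
    IsPullback (poMap n g) (CohB1.ProjSpaceOver.toBase n S') (CohB1.ProjSpaceOver.toBase n S) g := by
  refine IsPullback.of_right ?_ (poMap_toBase n g) (isPullback_po n S)
  rw [poMap_toPZ, specULiftZIsTerminal.hom_ext (g ≫ _) (specULiftZIsTerminal.from S')]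
  exact isPullback_po n S'

variable {n} {X Y : Scheme.{u}}

theorem isHProjective_baseChange {f : X ⟶ S} (hf : RelProj.IsHProjective f) (g : S' ⟶ S) :
    RelProj.IsHProjective (pullback.snd f g) := by
  obtain ⟨n, i, hi, hif⟩ := hf
  have : IsClosedImmersion i := hi
  let k : pullback f g ⟶ CohB1.ProjSpaceOver n S' :=
    (isPullback_poMap n g).lift (pullback.fst f g ≫ i) (pullback.snd f g)
      (by rw [Category.assoc, hif, pullback.condition])
  have h1 : k ≫ poMap n g = pullback.fst f g ≫ i := IsPullback.lift_fst ..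
  have h2 : k ≫ CohB1.ProjSpaceOver.toBase n S' = pullback.snd f g := IsPullback.lift_snd ..
  have hk : IsPullback (pullback.fst f g) k i (poMap n g) := by
    refine IsPullback.of_bot ?_ h1.symm (isPullback_poMap n g)
    rw [hif, h2]
    exact IsPullback.of_hasPullback f g
  exact ⟨n, k, MorphismProperty.of_isPullback hk inferInstance, h2⟩

theorem isHProjective_comp {Z : Scheme.{u}} {f : X ⟶ Y} {g : Y ⟶ Z} (hf : RelProj.IsHProjective f)
    (hg : RelProj.IsHProjective g) : RelProj.IsHProjective (f ≫ g) := by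
  obtain ⟨n, i, hi, hif⟩ := hf
  obtain ⟨m, j, hj, hjg⟩ := hg
  have : IsClosedImmersion i := hi
  have : IsClosedImmersion j := hj
  let e := (isPullback_poMap n g).isoPullback
  let μ : pullback (CohB1.ProjSpaceOver.toBase n Z) g ⟶
      pullback (CohB1.ProjSpaceOver.toBase n Z) (CohB1.ProjSpaceOver.toBase m Z) :=
    pullback.map _ _ _ _ (𝟙 _) j (𝟙 _) (by simp) (by simp [hjg])
  have : IsClosedImmersion μ :=
    MorphismProperty.pullbackMap (P := @IsClosedImmersion) inferInstance hj (by simp) (by simp [*])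
  refine ⟨n * m + n + m, i ≫ e.hom ≫ μ ≫ segre Z n m, inferInstance, ?_⟩
  simp only [Category.assoc]
  rw [segre_toBase]
  simp only [μ, pullback.lift_fst_assoc, Category.id_comp, Category.assoc]
  rw [← Category.assoc e.hom, IsPullback.isoPullback_hom_fst, poMap_toBase, ← Category.assoc, hif]

theorem isHProjective_iff {f : X ⟶ S} :
    RelProj.IsHProjective f ↔ RelProj.IsHQuasiProjective f ∧ IsProper f := by
  refine ⟨fun ⟨n, i, hi, hif⟩ => ?_, fun ⟨⟨n, i, hi, _, hif⟩, hp⟩ => ?_⟩
  · have : IsClosedImmersion i := hi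
    exact ⟨⟨n, i, inferInstance, inferInstance, hif⟩, hif ▸ inferInstance⟩
  · have : IsImmersion i := hi
    have : IsProper f := hp
    exact isProjective_of_proper_immersion f i hif

theorem surjective_toBase (r : ℕ) (Y : Scheme.{u}) :
    Surjective (CohB1.ProjSpaceOver.toBase r Y) := by
  refine ⟨fun y => ⟨poLift (pt (fun _ => 1) 0 isUnit_one) (𝟙 Y) y, ?_⟩⟩
  exact congrArg (fun φ : Y ⟶ Y => φ y) (poLift_toBase _ _)

end AmpleLib

end
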