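import Groth.Agent.AmpleLib.Powers
import Groth.Agent.ChowLib.Embed
import Groth.Prelude.Def_RelProj

/-!
# A subscheme of `P^n_S` is quasi-projective: `O(1)` is relatively ample
-/

set_option autoImplicit false
universe u

open CategoryTheory CategoryTheory.Limits AlgebraicGeometry TopologicalSpace Opposite
open ChowLib RelProjLib

noncomputable section

namespace AmpleLib

variable {X X' : Scheme.{u}} {n : ℕ}

/-- the coordinates of a composite -/
lemma coord_comp (h : X' ⟶ X) (q : X ⟶ PZ.{u} n) (a j : Fin (n + 1)) {W : X.Opens} {W' : X'.Opens}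
    (hW : W ≤ q ⁻¹ᵁ Dplus a) (hW' : W' ≤ (h ≫ q) ⁻¹ᵁ Dplus a) (e : W' ≤ h ⁻¹ᵁ W) :
    h.appLE W W' e (coord q a j hW) = coord (h ≫ q) a j hW' := by
  have h1 := ι_comp_q (h ≫ q) a hW'
  rw [← Category.assoc, ← Scheme.Hom.resLE_comp_ι h e, Category.assoc, ι_comp_q q a hW, comp_pt] at h1
  have h2 := prop_of_pt_eq _ _ a a _ _ h1 j
  simp only [coord_self, map_one, mul_one] at h2
  apply (ConcreteCategory.bijective_of_isIso W'.topIso.inv).1
  rw [← h2, ← CommRingCat.comp_apply, ← CommRingCat.comp_apply]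
  rw [Scheme.Hom.appTop, Scheme.Hom.resLE_app_top, Iso.inv_hom_id_assoc]

/-- generators make a module invertible -/
theorem isInvertible_of_gens {ι : Type*} {M : X.Modules} (D : ι → X.Opens)
    (hD : ∀ x : X, ∃ a, x ∈ D a) (e : ∀ a, Γ(M, D a)) (he : ∀ a, GenOn M (e a)) :
    PicF.IsInvertible M := by
  intro x
  obtain ⟨a, ha⟩ := hD x
  have hle : (D a).ι ''ᵁ ⊤ ≤ D a := by rw [Scheme.Opens.ι_image_top]
  have := isIso_unitHom _ ((he a).restrict (D a).ι ⊤ hle)
  exact ⟨D a, ha, ⟨(@asIso _ _ _ _ _ this).symm⟩⟩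

variable {S Y : Scheme.{u}}

lemma basicOpen_appLE (g : Y ⟶ X) {U : X.Opens} {W : Y.Opens} (e : W ≤ g ⁻¹ᵁ U) (r : Γ(X, U)) :
    Y.basicOpen (g.appLE U W e r) = W ⊓ g ⁻¹ᵁ X.basicOpen r := by
  have h1 : g.appLE U W e r = Y.presheaf.map (homOfLE e).op (g.app U r) := rfl
  have h2 := Scheme.basicOpen_res Y (g.app U r) (homOfLE e).op
  rw [← Scheme.preimage_basicOpen] at h2
  rw [h1]
  exact h2

lemma evalA_overlap (f : X ⟶ S) (q : X ⟶ PZ.{u} n) (a b : Fin (n + 1)) {V : S.Opens}
    {P : MvPolynomial (Fin (n + 1)) Γ(S, V)} {d : ℕ} (hP : P.IsHomogeneous d) {W : X.Opens}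
    (hWa : W ≤ piece f q a V) (hWb : W ≤ piece f q b V) :
    X.presheaf.map (homOfLE hWb).op (evalA f q b V P) =
      coord q b a (hWb.trans (piece_le f q b V)) ^ d *
        X.presheaf.map (homOfLE hWa).op (evalA f q a V P) := by
  classical
  simp only [evalA, MvPolynomial.coe_eval₂Hom, MvPolynomial.eval₂_comp_left]
  have e : ∀ c, ∀ (hWc : W ≤ piece f q c V),
      (X.presheaf.map (homOfLE hWc).op).hom.comp (f.appLE V (piece f q c V) inf_le_right).hom =
        (f.appLE V W (hWc.trans inf_le_right)).hom := by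
    intro c hWc
    rw [← CommRingCat.hom_comp, Scheme.Hom.appLE_map]
  rw [e b hWb, e a hWa]
  have hc : (X.presheaf.map (homOfLE hWb).op).hom ∘ (fun j => coord q b j (piece_le f q b V)) =
      fun j => coord q b a (hWb.trans (piece_le f q b V)) *
        ((X.presheaf.map (homOfLE hWa).op).hom ∘ (fun j => coord q a j (piece_le f q a V))) j := by
    funext j
    simp only [Function.comp_apply, coord_res]
    rw [coord_change q b a j (hWb.trans (piece_le f q b V)) (hWa.trans (piece_le f q a V)), mul_comm]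
  rw [hc]
  simp only [MvPolynomial.eval₂_eq, Finset.mul_sum]
  refine Finset.sum_congr rfl fun m hm => ?_
  have hdk : ∑ j ∈ m.support, m j = d := by
    have := hP (MvPolynomial.mem_support_iff.mp hm)
    simpa [Finsupp.weight_apply, Finsupp.sum] using this
  simp only [mul_pow, Finset.prod_mul_distrib, Finset.prod_pow_eq_pow_sum, hdk]
  ring

/-- an affine open piece of a subscheme of `P^n` cut out by one homogeneous polynomial -/
theorem exists_affine_locus (j : Y ⟶ CohB1.ProjSpaceOver n S) [IsImmersion j] {V : S.Opens}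
    (hV : IsAffineOpen V) (hle : (⊤ : Y.Opens) ≤ (j ≫ CohB1.ProjSpaceOver.toBase n S) ⁻¹ᵁ V) (y : Y) :
    ∃ (N : ℕ) (F : MvPolynomial (Fin (n + 1)) Γ(S, V)) (W : Y.Opens),
      F.IsHomogeneous (N + 1) ∧ y ∈ W ∧ IsAffineOpen W ∧
      ∀ b, Y.basicOpen (expr (j ≫ toPZ n S)
        ((j ≫ CohB1.ProjSpaceOver.toBase n S).appLE V ⊤ hle).hom b F) =
          (j ≫ toPZ n S) ⁻¹ᵁ Dplus b ⊓ W := by
  classical
  let p := CohB1.ProjSpaceOver.toBase n S
  let π := toPZ n S
  obtain ⟨a, ha⟩ := Opens.mem_iSup.mp (show y ∈ ⨆ a, (j ≫ π) ⁻¹ᵁ Dplus a by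
    rw [← Scheme.Hom.preimage_iSup, iSup_Dplus]; trivial)
  let A := piece p π a V
  have hA : IsAffineOpen A := isAffineOpen_piece p π (𝟙 _) (Category.id_comp _) (Category.id_comp _) a hV
  have hjy : j y ∈ A := ⟨ha, hle (Set.mem_univ y)⟩
  let Z : Set (CohB1.ProjSpaceOver n S) := closure (Set.range j) \ Set.range j
  have hZ : IsClosed Z := by
    have hl : IsLocallyClosed (Set.range j) := j.isLocallyClosed_range
    have h2 := hl.isOpen_coborder
    rw [coborder] at h2
    exact ⟨h2⟩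
  obtain ⟨g, hgle, hyg⟩ := hA.exists_basicOpen_le (V := A ⊓ ⟨Zᶜ, hZ.isOpen_compl⟩)
    ⟨j y, hjy, fun h => h.2 ⟨y, rfl⟩⟩ hjy
  obtain ⟨P, hP⟩ := evalA_surjective p π (𝟙 _) (Category.id_comp _) (Category.id_comp _) a hV g
  let N := P.totalDegree + 1
  let F : MvPolynomial (Fin (n + 1)) Γ(S, V) := MvPolynomial.X a *
    ∑ k ∈ Finset.range N, MvPolynomial.homogeneousComponent k P * MvPolynomial.X a ^ (N - k)
  have hF : F.IsHomogeneous (N + 1) := by
    refine Nat.add_comm 1 N ▸ ?_
    refine (MvPolynomial.isHomogeneous_X _ a).mul (MvPolynomial.IsHomogeneous.sum _ _ _ fun k hk => ?_)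
    have hk' : k + (N - k) = N := Nat.add_sub_cancel' (Finset.mem_range.mp hk).le
    have := (MvPolynomial.homogeneousComponent_isHomogeneous k P).mul
      (((MvPolynomial.isHomogeneous_X Γ(S, V) a).pow (N - k)))
    rwa [one_mul, hk'] at this
  have hX : evalA p π a V (MvPolynomial.X a) = 1 := by
    rw [evalA, MvPolynomial.eval₂Hom_X', coord_self]
  have hFa : evalA p π a V F = g := by
    simp only [F, map_mul, map_sum, map_pow, hX, one_pow, mul_one, one_mul]
    rw [← map_sum, MvPolynomial.sum_homogeneousComponent, hP]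
  have hlocus : ∀ b, (CohB1.ProjSpaceOver n S).basicOpen (evalA p π b V F) =
      piece p π b V ⊓ (CohB1.ProjSpaceOver n S).basicOpen g := by
    intro b
    let O := piece p π a V ⊓ piece p π b V
    have h1 : (CohB1.ProjSpaceOver n S).basicOpen (evalA p π b V F) ≤ O := by
      refine le_inf ?_ (Scheme.basicOpen_le _ _)
      have hsplit : evalA p π b V F = coord π b a (piece_le p π b V) *
          evalA p π b V (∑ k ∈ Finset.range N, MvPolynomial.homogeneousComponent k P *
            MvPolynomial.X a ^ (N - k)) := by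
        rw [map_mul]; exact congrArg (· * _) (MvPolynomial.eval₂Hom_X' _ _ _)
      rw [hsplit, Scheme.basicOpen_mul, basicOpen_coord]
      exact inf_le_left.trans (le_inf inf_le_right (inf_le_left.trans inf_le_right))
    have h2 : (CohB1.ProjSpaceOver n S).basicOpen g ≤ piece p π a V := Scheme.basicOpen_le _ _
    have h3 : O ⊓ (CohB1.ProjSpaceOver n S).basicOpen (evalA p π b V F) =
        O ⊓ (CohB1.ProjSpaceOver n S).basicOpen g := by
      have hu : IsUnit (coord π b a ((inf_le_right : O ≤ piece p π b V).trans (piece_le p π b V))) :=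
        isUnit_coord π b a _ ((inf_le_left : O ≤ piece p π a V).trans (piece_le p π a V))
      rw [← Scheme.basicOpen_res _ _ (homOfLE (inf_le_right : O ≤ piece p π b V)).op,
        ← Scheme.basicOpen_res _ _ (homOfLE (inf_le_left : O ≤ piece p π a V)).op,
        evalA_overlap p π a b hF inf_le_left inf_le_right, hFa,
        Scheme.basicOpen_mul, Scheme.basicOpen_of_isUnit _ (hu.pow _)]
      exact inf_eq_right.mpr (Scheme.basicOpen_le _ _)
    rw [inf_eq_right.mpr h1] at h3
    rw [h3]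
    apply le_antisymm
    · exact le_inf (inf_le_left.trans inf_le_right) inf_le_right
    · exact le_inf (le_inf (inf_le_right.trans h2) inf_le_left) inf_le_right
  refine ⟨N, F, j ⁻¹ᵁ (CohB1.ProjSpaceOver n S).basicOpen g, hF, hyg, ?_, fun b => ?_⟩
  · -- affine: closed in an affine open
    let O := (CohB1.ProjSpaceOver n S).basicOpen g
    have : IsAffine O.toScheme := hA.basicOpen g
    have hcl : IsClosed (Set.range (j ∣_ O)) := by
      have e : Set.range (j ∣_ O) = O.ι ⁻¹' closure (Set.range j) := by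
        ext z
        constructor
        · rintro ⟨w, rfl⟩
          refine subset_closure ⟨w.1, ?_⟩
          exact (congrArg (fun φ : (j ⁻¹ᵁ O).toScheme ⟶ CohB1.ProjSpaceOver n S => φ w)
            (morphismRestrict_ι j O)).symm
        · intro hz
          have hzO : O.ι z ∈ O := z.2
          obtain ⟨w, hw⟩ : O.ι z ∈ Set.range j := by
            by_contra hne
            exact (hgle hzO).2 ⟨hz, hne⟩
          have hwO : w ∈ j ⁻¹ᵁ O := by change j w ∈ O; rw [hw]; exact hzO
          refine ⟨⟨w, hwO⟩, ?_⟩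
          apply O.ι.isOpenEmbedding.injective
          rw [← hw]
          exact congrArg (fun φ : (j ⁻¹ᵁ O).toScheme ⟶ CohB1.ProjSpaceOver n S => φ ⟨w, hwO⟩)
            (morphismRestrict_ι j O)
      rw [e]
      exact isClosed_closure.preimage O.ι.continuous
    have : IsImmersion (j ∣_ O) := IsZariskiLocalAtTarget.restrict (P := @IsImmersion) inferInstance O
    have : IsClosedImmersion (j ∣_ O) := IsClosedImmersion.of_isPreimmersion _ hcl
    exact isAffine_of_isAffineHom (j ∣_ O)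
  · let q' := j ≫ π
    have hb : q' ⁻¹ᵁ Dplus b ≤ j ⁻¹ᵁ piece p π b V := le_inf le_rfl (le_top.trans hle)
    have he : expr q' ((j ≫ p).appLE V ⊤ hle).hom b =
        (j.appLE (piece p π b V) (q' ⁻¹ᵁ Dplus b) hb).hom.comp (evalA p π b V) := by
      refine MvPolynomial.ringHom_ext (fun r => ?_) (fun k => ?_)
      · rw [expr, MvPolynomial.eval₂Hom_C, RingHom.comp_apply, RingHom.comp_apply, evalA,
          MvPolynomial.eval₂Hom_C, ← CommRingCat.comp_apply, ← CommRingCat.comp_apply,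
          Scheme.Hom.appLE_map, Scheme.Hom.appLE_comp_appLE]
      · rw [expr, MvPolynomial.eval₂Hom_X', RingHom.comp_apply, evalA, MvPolynomial.eval₂Hom_X']
        exact (coord_comp j π b k (piece_le p π b V) le_rfl hb).symm
    rw [he, RingHom.comp_apply]
    refine (basicOpen_appLE j hb _).trans ?_
    rw [hlocus b, Scheme.Hom.preimage_inf]
    exact le_antisymm (le_inf inf_le_left (inf_le_right.trans inf_le_right))
      (le_inf inf_le_left (le_inf (inf_le_left.trans hb) inf_le_right))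

/-- `O(1)` is relatively ample on a subscheme of `P^n_S` -/
theorem isQuasiProjective_of_immersion {f : X ⟶ S} (i : X ⟶ CohB1.ProjSpaceOver n S) [IsImmersion i]
    [QuasiCompact i] (hi : i ≫ CohB1.ProjSpaceOver.toBase n S = f) :
    RelProj.IsQuasiProjective f := by
  have hlft : LocallyOfFiniteType f := by rw [← hi]; infer_instance
  have hqc : QuasiCompact f := by rw [← hi]; infer_instance
  let q := i ≫ toPZ n S
  refine ⟨hlft, hqc, one q, hqc, fun V => ?_⟩
  let U := f ⁻¹ᵁ V.1
  let M := (one q).restrict U.ι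
  let j := U.ι ≫ i
  let q' := j ≫ toPZ n S
  have hq' : q' = U.ι ≫ q := Category.assoc _ _ _
  have hle : (⊤ : U.toScheme.Opens) ≤ (j ≫ CohB1.ProjSpaceOver.toBase n S) ⁻¹ᵁ V.1 := by
    intro z _
    rw [Category.assoc, hi]
    exact z.2
  have himg : ∀ a, U.ι ''ᵁ (q' ⁻¹ᵁ Dplus a) ≤ q ⁻¹ᵁ Dplus a := by
    rintro a _ ⟨z, hz, rfl⟩
    rw [hq'] at hz
    exact hz
  let e : ∀ a, Γ(M, q' ⁻¹ᵁ Dplus a) := fun a => res (one q) (himg a) (gen q a)
  have he : ∀ a, GenOn M (e a) := fun a => (gen_genOn q a).restrict U.ι _ (himg a)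
  let τ : Fin (n + 1) → Γ(M, ⊤) := fun k => res (one q) le_top (T q k)
  have hτ : ∀ a k, res M (le_top : q' ⁻¹ᵁ Dplus a ≤ ⊤) (τ k) = coord q' a k le_rfl • e a := by
    intro a k
    change res (one q) (U.ι.image_mono le_top) (res (one q) le_top (T q k)) =
      (show Γ(X, U.ι ''ᵁ (q' ⁻¹ᵁ Dplus a)) from
        (U.ι.appIso (q' ⁻¹ᵁ Dplus a)).inv (coord q' a k le_rfl)) • res (one q) (himg a) (gen q a)
    rw [res_res, ← res_res (one q) (le_top : q ⁻¹ᵁ Dplus a ≤ ⊤) (himg a), T_res, res_smul]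
    congr 1
    apply (ConcreteCategory.bijective_of_isIso (U.ι.appIso (q' ⁻¹ᵁ Dplus a)).hom).1
    rw [← CommRingCat.comp_apply (U.ι.appIso _).inv, Iso.inv_hom_id, ← CommRingCat.comp_apply]
    have hc := coord_comp U.ι q a k (W := q ⁻¹ᵁ Dplus a) (W' := q' ⁻¹ᵁ Dplus a) le_rfl
      (by rw [← hq']) (fun z hz => himg a ⟨z, hz, rfl⟩)
    simp only [← hq'] at hc
    rw [CommRingCat.id_apply, ← hc, Scheme.Hom.appIso_hom', Scheme.Hom.map_appLE]
  refine ⟨isInvertible_of_gens (fun a => q' ⁻¹ᵁ Dplus a) (fun z => ?_) e he, ?_, fun y => ?_⟩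
  · exact Opens.mem_iSup.mp (show z ∈ ⨆ a, q' ⁻¹ᵁ Dplus a by
      rw [← Scheme.Hom.preimage_iSup, iSup_Dplus]; trivial)
  · exact isCompact_iff_compactSpace.mp (f.isCompact_preimage V.2.isCompact)
  obtain ⟨N, F, W, hF, hyW, hW, hloc⟩ := exists_affine_locus j V.2 hle y
  obtain ⟨σ, hσ⟩ := exists_section q' M e τ
    ((j ≫ CohB1.ProjSpaceOver.toBase n S).appLE V.1 ⊤ hle).hom hτ hF
  have hgen : CohB1.genLocus _ (QCohLib.unitHom (CohB1.tensorPow M (N + 1)) σ) = W := by
    refine genLocus_eq σ W fun x => ?_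
    obtain ⟨b, hb⟩ := Opens.mem_iSup.mp (show x ∈ ⨆ a, q' ⁻¹ᵁ Dplus a by
      rw [← Scheme.Hom.preimage_iSup, iSup_Dplus]; trivial)
    rw [← genAt_res (le_top : q' ⁻¹ᵁ Dplus b ≤ ⊤) σ hb, hσ b,
      genAt_smul_iff _ _ hb (E_genAt q' M e he b (N + 1) hb), hloc b]
    exact and_iff_right hb
  exact ⟨N, QCohLib.unitHom _ σ, by rw [hgen]; exact hyW, by rw [hgen]; exact hW⟩

/-- H-quasi-projective morphisms are quasi-projective -/
theorem isQuasiProjective_of_isHQuasiProjective {f : X ⟶ S} (h : RelProj.IsHQuasiProjective f) :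
    RelProj.IsQuasiProjective f := by
  obtain ⟨n, i, h1, h2, hi⟩ := h
  exact isQuasiProjective_of_immersion i hi

end AmpleLib

end
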