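import Groth.Agent.AmpleLib.OneSheaf
import Groth.Agent.RelProjLib.Coords
import Mathlib.RingTheory.MvPolynomial.Homogeneous

/-!
# Sections of powers with prescribed local polynomial expressions
-/

set_option autoImplicit false
universe u

open CategoryTheory CategoryTheory.Limits AlgebraicGeometry TopologicalSpace Opposite
open ChowLib RelProjLib

noncomputable section

namespace AmpleLib

variable {X : Scheme.{u}}

lemma shT_res {M N : X.Modules} {V W : X.Opens} (h : V ≤ W) (m : Γ(M, W)) (n : Γ(N, W)) :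
    res (CohB1.tensorMod M N) h (shT m n) = shT (res M h m) (res N h n) := by
  have e := PresheafOfModules.naturality_apply
    ((PresheafOfModules.sheafificationAdjunction.{u} (R := X.ringCatSheaf) (𝟙 X.ringCatSheaf.obj)).unit.app
      (KFlatLib.pT M N : X.PresheafOfModules)) (homOfLE h).op
    (KFlatLib.tm (DCoh.toP.obj M : KFlatLib.PM X.presheaf)
      (DCoh.toP.obj N : KFlatLib.PM X.presheaf) m n)
  refine e.symm.trans ?_
  exact congrArg (KFlatLib.shApp M N V)
    (KFlatLib.rst_tm (P := (DCoh.toP.obj M : KFlatLib.PM X.presheaf))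
      (Q := (DCoh.toP.obj N : KFlatLib.PM X.presheaf)) h m n)

lemma shT_smul {M N : X.Modules} {W : X.Opens} (r s : Γ(X, W)) (m : Γ(M, W)) (n : Γ(N, W)) :
    shT (r • m) (s • n) = (r * s) • shT m n := by
  refine Eq.trans ?_ (KFlatLib.shApp_smul M N W (r * s) _)
  exact congrArg (KFlatLib.shApp M N W) (TensorProduct.smul_tmul_smul (R := Γ(X, W)) r s m n)

variable {n : ℕ} (q : X ⟶ PZ.{u} n) (M : X.Modules) (e : ∀ a, Γ(M, q ⁻¹ᵁ Dplus a))
  (τ : Fin (n + 1) → Γ(M, ⊤))

/-- the generator of the `d`-th power -/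
def E (a : Fin (n + 1)) : ∀ d : ℕ, Γ(CohB1.tensorPow M d, q ⁻¹ᵁ Dplus a)
  | 0 => (1 : Γ(X, q ⁻¹ᵁ Dplus a))
  | d + 1 => shT (E a d) (e a)

lemma E_genAt (he : ∀ a, GenOn M (e a)) (a : Fin (n + 1)) (d : ℕ) {x : X}
    (hx : x ∈ q ⁻¹ᵁ Dplus a) : GenAt (CohB1.tensorPow M d) (E q M e a d) hx := by
  induction d with
  | zero => exact (one_genOn (q ⁻¹ᵁ Dplus a)).genAt hx
  | succ d ih => exact ih.tensor ((he a).genAt hx)

variable {R : Type u} [CommRing R] (ρ : R →+* Γ(X, ⊤))

/-- the polynomial expression on the `a`-th piece -/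
def expr (a : Fin (n + 1)) : MvPolynomial (Fin (n + 1)) R →+* Γ(X, q ⁻¹ᵁ Dplus a) :=
  MvPolynomial.eval₂Hom ((X.presheaf.map (homOfLE le_top).op).hom.comp ρ)
    (fun j => coord q a j le_rfl)

/-- homogeneous polynomials give global sections of the powers -/
theorem exists_section (hτ : ∀ a j, res M (le_top : q ⁻¹ᵁ Dplus a ≤ ⊤) (τ j) = coord q a j le_rfl • e a)
    {d : ℕ} {P : MvPolynomial (Fin (n + 1)) R} (hP : P.IsHomogeneous d) :
    ∃ σ : Γ(CohB1.tensorPow M d, ⊤), ∀ a,
      res _ (le_top : q ⁻¹ᵁ Dplus a ≤ ⊤) σ = expr q ρ a P • E q M e a d := by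
  classical
  -- monomials
  have hmon : ∀ (d : ℕ) (m : Fin (n + 1) →₀ ℕ), m.degree = d →
      ∃ σ : Γ(CohB1.tensorPow M d, ⊤), ∀ a,
        res _ (le_top : q ⁻¹ᵁ Dplus a ≤ ⊤) σ = expr q ρ a (MvPolynomial.monomial m 1) • E q M e a d := by
    intro d
    induction d with
    | zero =>
      intro m hm
      rw [(Finsupp.degree_eq_zero_iff m).mp hm]
      refine ⟨(1 : Γ(X, ⊤)), fun a => ?_⟩
      refine Eq.trans (map_one (X.presheaf.map (homOfLE le_top).op).hom) ?_
      rw [show MvPolynomial.monomial (0 : Fin (n + 1) →₀ ℕ) (1 : R) = 1 from rfl, map_one]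
      exact (one_smul _ _).symm
    | succ d ih =>
      intro m hm
      obtain ⟨j, hj⟩ : ∃ j, m j ≠ 0 := by
        by_contra hne
        push_neg at hne
        rw [show m = 0 from Finsupp.ext hne] at hm
        simp at hm
      obtain ⟨m', rfl⟩ : ∃ m', m = m' + Finsupp.single j 1 :=
        ⟨m - Finsupp.single j 1, (tsub_add_cancel_of_le (Finsupp.single_le_iff.mpr
          (Nat.one_le_iff_ne_zero.mpr hj))).symm⟩
      obtain ⟨σ, hσ⟩ := ih m' (by rw [map_add, Finsupp.degree_single] at hm; omega)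
      refine ⟨shT σ (τ j), fun a => ?_⟩
      change res (CohB1.tensorMod (CohB1.tensorPow M d) M) _ (shT σ (τ j)) =
        _ • (shT (E q M e a d) (e a) : Γ(CohB1.tensorMod (CohB1.tensorPow M d) M, q ⁻¹ᵁ Dplus a))
      rw [shT_res, hσ a, hτ a j, shT_smul]
      congr 1
      rw [show MvPolynomial.monomial (m' + Finsupp.single j 1) (1 : R) =
          MvPolynomial.monomial m' 1 * MvPolynomial.X j from by
            rw [show (MvPolynomial.X j : MvPolynomial (Fin (n + 1)) R) =
              MvPolynomial.monomial (Finsupp.single j 1) 1 from rfl, MvPolynomial.monomial_mul,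
              one_mul], map_mul]
      congr 1
      rw [expr, MvPolynomial.eval₂Hom_X']
  choose s hs using fun m : {m : Fin (n + 1) →₀ ℕ // m.degree = d} => hmon d m.1 m.2
  refine ⟨∑ m ∈ P.support, if h : m.degree = d then ρ (P.coeff m) • s ⟨m, h⟩ else 0, fun a => ?_⟩
  have hdeg : ∀ m ∈ P.support, m.degree = d := fun m hm => by
    have := hP (MvPolynomial.mem_support_iff.mp hm)
    simpa [Finsupp.weight_apply, Finsupp.sum, Finsupp.degree_apply] using this
  conv_rhs => rw [P.as_sum, map_sum, Finset.sum_smul]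
  refine (map_sum ((CohB1.tensorPow M d).presheaf.map _).hom _ _).trans ?_
  refine Finset.sum_congr rfl fun m hm => ?_
  rw [dif_pos (hdeg m hm)]
  change res _ _ (ρ (P.coeff m) • s ⟨m, hdeg m hm⟩) = _
  rw [res_smul, hs ⟨m, hdeg m hm⟩ a, smul_smul]
  congr 1
  rw [show MvPolynomial.monomial m (P.coeff m) =
      MvPolynomial.C (P.coeff m) * MvPolynomial.monomial m 1 by
    rw [MvPolynomial.C_mul_monomial, mul_one], map_mul]
  congr 1
  rw [expr, MvPolynomial.eval₂Hom_C]
  rfl

end AmpleLib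

end
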