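import Groth.Agent.AmpleLib.Ample
import Groth.Agent.ChowLib.Chow
import Groth.Agent.RelProjLib.HProj
import Mathlib.AlgebraicGeometry.Morphisms.SchemeTheoreticallyDominant

/-!
# Chow's lemma in the form of EGA II 5.6
-/

set_option autoImplicit false
universe u

open CategoryTheory CategoryTheory.Limits AlgebraicGeometry TopologicalSpace

noncomputable section

namespace AmpleLib

variable {X S : Scheme.{u}}

lemma compact_qs_of_finiteType (r : X ⟶ S) [IsSeparated r] [QuasiCompact r] [CompactSpace S]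
    [QuasiSeparatedSpace S] : CompactSpace X ∧ QuasiSeparatedSpace X :=
  ⟨QuasiCompact.compactSpace_of_compactSpace r,
    quasiSeparatedSpace_of_quasiSeparated r⟩

/-- the hypotheses of EGA II 5.6.1 -/
lemma chow_hyp (r : X ⟶ S) [IsSeparated r] [LocallyOfFiniteType r] [QuasiCompact r]
    (h : IsNoetherian S ∨ (CompactSpace S ∧ S.IsSeparated ∧ (irreducibleComponents X).Finite)) :
    CompactSpace X ∧ QuasiSeparatedSpace X ∧ (irreducibleComponents X).Finite := by
  rcases h with h | ⟨h1, h2, h3⟩
  · have hX := compact_qs_of_finiteType r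
    have : CompactSpace X := hX.1
    have : IsLocallyNoetherian X := LocallyOfFiniteType.isLocallyNoetherian r
    have : IsNoetherian X := {}
    exact ⟨hX.1, hX.2, TopologicalSpace.NoetherianSpace.finite_irreducibleComponents⟩
  · have hX := compact_qs_of_finiteType r
    exact ⟨hX.1, hX.2, h3⟩

/-- Chow's lemma with all the properties needed in EGA II 5.6 -/
theorem chow_ega (r : X ⟶ S) [IsSeparated r] [LocallyOfFiniteType r] [CompactSpace X]
    [QuasiSeparatedSpace X] (hfin : (irreducibleComponents X).Finite) :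
    ∃ (n : ℕ) (X' : Scheme.{u}) (f : X' ⟶ X) (j : X' ⟶ CohB1.ProjSpaceOver n S),
      IsImmersion j ∧ j ≫ CohB1.ProjSpaceOver.toBase n S = f ≫ r ∧ IsProper f ∧ Surjective f ∧
      RelProj.IsHProjective f ∧
      (∃ U : X.Opens, Dense (U : Set X) ∧ Dense ((f ⁻¹ᵁ U : X'.Opens) : Set X') ∧ IsIso (f ∣_ U)) ∧
      (IsReduced X → IsReduced X') ∧ (IrreducibleSpace X → IrreducibleSpace X') := by
  obtain ⟨n, X', π, j, U0, h1, h2, h3, h4, hd, h5, ⟨i, hi, hi'⟩, d, hd1, hd2, hd3⟩ :=
    ChowLib.chow r hfin
  have hdd : DenseRange d := d.denseRange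
  have hsub : Set.range d ⊆ (π ⁻¹ᵁ U0 : X'.Opens) := by
    rintro _ ⟨z, rfl⟩
    change (d ≫ π) z ∈ U0
    rw [hd3]
    exact z.2
  refine ⟨n, X', π, j, h1, h2, h3, h4, ⟨n, i, hi, hi'⟩, ⟨U0, hd, hdd.mono hsub, h5⟩, fun _ => ?_,
    fun hX => ?_⟩
  · have : IsReduced U0.toScheme := isReduced_of_isOpenImmersion U0.ι
    exact IsSchemeTheoreticallyDominant.isReduced d
  · have hne : (U0 : Set X).Nonempty := hd.nonempty
    have h0 : IrreducibleSpace U0.toScheme := by
      have hirr : IsIrreducible (U0 : Set X) :=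
        ⟨hne, (IrreducibleSpace.isIrreducible_univ X).2.open_subset U0.isOpen (Set.subset_univ _)⟩
      exact Subtype.irreducibleSpace hirr
    have hi2 : IsIrreducible (Set.range d) := by
      rw [← Set.image_univ]
      exact (IrreducibleSpace.isIrreducible_univ U0.toScheme).image d d.continuous.continuousOn
    have hu : IsIrreducible (Set.univ : Set X') := by
      rw [← hdd.closure_range]; exact hi2.closure
    exact { toPreirreducibleSpace := ⟨hu.2⟩, toNonempty := ⟨hu.1.choose⟩ }

/-- the immersion of Chow's lemma is quasi-compact over a quasi-separated base -/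
lemma quasiCompact_of_immersion {X' : Scheme.{u}} {n : ℕ} (r : X ⟶ S) [QuasiCompact r] (f : X' ⟶ X)
    [QuasiCompact f] (j : X' ⟶ CohB1.ProjSpaceOver n S)
    (hj : j ≫ CohB1.ProjSpaceOver.toBase n S = f ≫ r) : QuasiCompact j := by
  have : QuasiCompact (j ≫ CohB1.ProjSpaceOver.toBase n S) := by rw [hj]; infer_instance
  exact QuasiCompact.of_comp j (CohB1.ProjSpaceOver.toBase n S)

/-- a proper subscheme of `P^n_S` is projective -/
lemma isProjective_of_proper_immersion {X' : Scheme.{u}} {n : ℕ} (g : X' ⟶ S) [IsProper g]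
    (j : X' ⟶ CohB1.ProjSpaceOver n S) [IsImmersion j]
    (hj : j ≫ CohB1.ProjSpaceOver.toBase n S = g) : RelProj.IsHProjective g := by
  have : IsProper (j ≫ CohB1.ProjSpaceOver.toBase n S) := by rw [hj]; infer_instance
  have : IsProper j := IsProper.of_comp j (CohB1.ProjSpaceOver.toBase n S)
  exact ⟨n, j, IsClosedImmersion.of_isPreimmersion j j.isClosedMap.isClosed_range, hj⟩

end AmpleLib

end
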