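import Groth.Agent.AmpleLib.Gen
import Groth.Agent.RelProjLib.Coords

/-!
# The invertible sheaf `O(1)` of a morphism to `P^n`

For `q : X ⟶ P^n_ℤ`: families of functions on the `W ∩ q⁻¹ D₊(x_a)` transforming as `x_b = (x_b/x_a) x_a`.
-/

set_option autoImplicit false
universe u

open CategoryTheory CategoryTheory.Limits AlgebraicGeometry TopologicalSpace Opposite
open ChowLib RelProjLib

noncomputable section

namespace AmpleLib

variable {X : Scheme.{u}} {n : ℕ} (q : X ⟶ PZ.{u} n)

/-- the `a`-th piece of `W` -/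
abbrev pc (a : Fin (n + 1)) (W : X.Opens) : X.Opens := W ⊓ q ⁻¹ᵁ Dplus a

/-- families of functions on the pieces -/
def LAmb (W : X.Opens) : Type u := (a : Fin (n + 1)) → Γ(X, pc q a W)

instance (W : X.Opens) : CommRing (LAmb q W) := inferInstanceAs (CommRing (∀ a, Γ(X, pc q a W)))

/-- constants -/
def lConst (W : X.Opens) : Γ(X, W) →+* LAmb q W :=
  Pi.ringHom fun a => (X.presheaf.map (homOfLE (inf_le_left : pc q a W ≤ W)).op).hom

instance (W : X.Opens) : Algebra Γ(X, W) (LAmb q W) := (lConst q W).toAlgebra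

lemma smul_apply' {W : X.Opens} (r : Γ(X, W)) (c : LAmb q W) (a : Fin (n + 1)) :
    (r • c) a = X.presheaf.map (homOfLE (inf_le_left : pc q a W ≤ W)).op r * c a := rfl

/-- restriction on the pieces -/
def lRes {V W : X.Opens} (h : V ≤ W) : LAmb q W →+* LAmb q V :=
  Pi.ringHom fun a => (X.presheaf.map (homOfLE (inf_le_inf_right _ h : pc q a V ≤ pc q a W)).op).hom.comp
    (Pi.evalRingHom (fun a => Γ(X, pc q a W)) a)

lemma lRes_apply {V W : X.Opens} (h : V ≤ W) (c : LAmb q W) (a : Fin (n + 1)) :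
    lRes q h c a = X.presheaf.map (homOfLE (inf_le_inf_right _ h : pc q a V ≤ pc q a W)).op (c a) := rfl

lemma map_map {U V W : X.Opens} (h : U ≤ V) (h' : V ≤ W) (r : Γ(X, W)) :
    X.presheaf.map (homOfLE h).op (X.presheaf.map (homOfLE h').op r) =
      X.presheaf.map (homOfLE (h.trans h')).op r := by
  rw [← CommRingCat.comp_apply, ← Functor.map_comp]; rfl

/-- the compatible families -/
def lSec (W : X.Opens) : Submodule Γ(X, W) (LAmb q W) where
  carrier := {c | ∀ (a b : Fin (n + 1)) (V : X.Opens) (ha : V ≤ pc q a W) (hb : V ≤ pc q b W),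
    X.presheaf.map (homOfLE hb).op (c b) =
      coord q b a (hb.trans inf_le_right) * X.presheaf.map (homOfLE ha).op (c a)}
  zero_mem' a b V ha hb := by
    change X.presheaf.map _ (0 : Γ(X, _)) = _ * X.presheaf.map _ (0 : Γ(X, _))
    rw [map_zero, map_zero, mul_zero]
  add_mem' {c d} hc hd a b V ha hb := by
    change X.presheaf.map _ (c b + d b) = _ * X.presheaf.map _ (c a + d a)
    rw [map_add, map_add, hc a b V ha hb, hd a b V ha hb, mul_add]
  smul_mem' r c hc a b V ha hb := by
    rw [smul_apply', smul_apply', map_mul, map_mul, hc a b V ha hb, map_map, map_map]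
    ring

/-- restriction of compatible families -/
def sRes {V W : X.Opens} (h : V ≤ W) : lSec q W →+ lSec q V where
  toFun c := ⟨lRes q h c.1, fun a b V' ha hb => by
    rw [lRes_apply, lRes_apply, map_map, map_map]
    exact c.2 a b V' _ _⟩
  map_zero' := Subtype.ext (map_zero _)
  map_add' x y := Subtype.ext (map_add (lRes q h) x.1 y.1)

lemma sRes_apply {V W : X.Opens} (h : V ≤ W) (c : lSec q W) (a : Fin (n + 1)) :
    (sRes q h c).1 a = X.presheaf.map (homOfLE (inf_le_inf_right _ h : pc q a V ≤ pc q a W)).op (c.1 a) :=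
  rfl

/-- the presheaf of groups -/
def onePre : TopCat.Presheaf AddCommGrpCat.{u} X where
  obj W := AddCommGrpCat.of (lSec q W.unop)
  map {W V} h := AddCommGrpCat.ofHom (sRes q h.unop.le)
  map_id W := by
    refine AddCommGrpCat.hom_ext (AddMonoidHom.ext fun c => Subtype.ext (funext fun a => ?_))
    exact (sRes_apply q _ c a).trans (congrArg (fun φ => φ (c.1 a))
      ((congrArg (fun k => ConcreteCategory.hom (X.presheaf.map k))
        (rfl : (homOfLE (le_refl (pc q a W.unop))).op = 𝟙 _)).trans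
        (congrArg ConcreteCategory.hom (X.presheaf.map_id _))))
  map_comp g h := by
    refine AddCommGrpCat.hom_ext (AddMonoidHom.ext fun c => Subtype.ext (funext fun a => ?_))
    exact (map_map _ _ _).symm

theorem onePre_isSheaf : (onePre q).IsSheaf := by
  rw [TopCat.Presheaf.isSheaf_iff_isSheafUniqueGluing]
  intro ι U sf cpt
  have hc : ∀ a : Fin (n + 1), ∃! c : Γ(X, pc q a (iSup U)), ∀ i,
      X.presheaf.map (homOfLE (inf_le_inf_right _ (le_iSup U i) : pc q a (U i) ≤ _)).op c =
        (sf i).1 a := by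
    intro a
    refine X.sheaf.existsUnique_gluing' (fun i => pc q a (U i)) _
      (fun i => homOfLE (inf_le_inf_right _ (le_iSup U i))) ?_ _ ?_
    · intro z hz
      obtain ⟨i, hi⟩ := Opens.mem_iSup.mp hz.1
      exact Opens.mem_iSup.mpr ⟨i, hi, hz.2⟩
    · intro i j
      have hV : pc q a (U i) ⊓ pc q a (U j) = pc q a (U i ⊓ U j) := (inf_inf_distrib_right _ _ _).symm
      have h0 := congrArg (fun s : lSec q (U i ⊓ U j) => s.1 a) (cpt i j)
      change (sRes q inf_le_left (sf i)).1 a = (sRes q inf_le_right (sf j)).1 a at h0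
      have h1 := congrArg (X.presheaf.map (homOfLE hV.le).op) h0
      rw [sRes_apply, sRes_apply, map_map, map_map] at h1
      exact h1
  choose c hc hu using fun a => hc a
  have hmem : (fun a => c a : LAmb q (iSup U)) ∈ lSec q (iSup U) := by
    intro a b V ha hb
    refine X.sheaf.eq_of_locally_eq' (fun i => V ⊓ U i) V (fun i => homOfLE inf_le_left)
      (fun z hz => ?_) _ _ fun i => ?_
    · obtain ⟨i, hi⟩ := Opens.mem_iSup.mp (ha hz).1
      exact Opens.mem_iSup.mpr ⟨i, hz, hi⟩
    · change X.presheaf.map (homOfLE (inf_le_left : V ⊓ U i ≤ V)).op _ =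
        X.presheaf.map (homOfLE (inf_le_left : V ⊓ U i ≤ V)).op _
      rw [map_mul, map_map, map_map, coord_res]
      have hia : V ⊓ U i ≤ pc q a (U i) := le_inf inf_le_right (inf_le_left.trans (ha.trans inf_le_right))
      have hib : V ⊓ U i ≤ pc q b (U i) := le_inf inf_le_right (inf_le_left.trans (hb.trans inf_le_right))
      have h := (sf i).2 a b _ hia hib
      rw [← hc a i, ← hc b i, map_map, map_map] at h
      exact h
  refine ⟨⟨fun a => c a, hmem⟩, fun i => Subtype.ext (funext fun a => hc a i),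
    fun t ht => Subtype.ext (funext fun a => hu a _ fun i => ?_)⟩
  exact (sRes_apply q _ t a).symm.trans (congrArg (fun s : lSec q (U i) => s.1 a) (ht i))

/-- the presheaf of modules -/
def onePMod : PresheafOfModules.{u} (X.presheaf ⋙ forget₂ CommRingCat RingCat) :=
  letI (W : (Opens X)ᵒᵖ) : Module ↑((X.presheaf ⋙ forget₂ CommRingCat RingCat).obj W)
      ↑((onePre q).obj W) := inferInstanceAs (Module Γ(X, W.unop) (lSec q W.unop))
  .ofPresheaf (onePre q) fun W V h r c => by
    refine Subtype.ext (funext fun a => ?_)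
    change X.presheaf.map _ (((show Γ(X, W.unop) from r) • c.1) a) =
      ((show Γ(X, V.unop) from X.presheaf.map h r) • lRes q h.unop.le c.1) a
    rw [smul_apply' q r c.1, smul_apply', map_mul, lRes_apply, map_map]
    congr 1
    exact (map_map (inf_le_left : pc q a V.unop ≤ V.unop) h.unop.le r).symm

/-- `O(1)` -/
def one : X.Modules where
  val := onePMod q
  isSheaf := onePre_isSheaf q

/-- the `a`-th component of a section -/
def comp {W : X.Opens} (σ : Γ(one q, W)) (a : Fin (n + 1)) : Γ(X, pc q a W) :=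
  (show lSec q W from σ).1 a

lemma one_ext {W : X.Opens} {σ τ : Γ(one q, W)} (h : ∀ a, comp q σ a = comp q τ a) : σ = τ :=
  Subtype.ext (funext h)

lemma comp_res {V W : X.Opens} (h : V ≤ W) (σ : Γ(one q, W)) (a : Fin (n + 1)) :
    comp q (res (one q) h σ) a =
      X.presheaf.map (homOfLE (inf_le_inf_right _ h : pc q a V ≤ pc q a W)).op (comp q σ a) := rfl

lemma comp_smul {W : X.Opens} (r : Γ(X, W)) (σ : Γ(one q, W)) (a : Fin (n + 1)) :
    comp q (r • σ) a =
      X.presheaf.map (homOfLE (inf_le_left : pc q a W ≤ W)).op r * comp q σ a := rfl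

lemma comp_change {W V : X.Opens} (σ : Γ(one q, W)) {a b : Fin (n + 1)} (ha : V ≤ pc q a W)
    (hb : V ≤ pc q b W) :
    X.presheaf.map (homOfLE hb).op (comp q σ b) =
      coord q b a (hb.trans inf_le_right) * X.presheaf.map (homOfLE ha).op (comp q σ a) :=
  (show lSec q W from σ).2 a b V ha hb

/-- a family as a section -/
def mk {W : X.Opens} (c : ∀ a, Γ(X, pc q a W)) (hc : (fun a => c a : LAmb q W) ∈ lSec q W) :
    Γ(one q, W) :=
  (⟨fun a => c a, hc⟩ : lSec q W)

@[simp] lemma comp_mk {W : X.Opens} (c : ∀ a, Γ(X, pc q a W))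
    (hc : (fun a => c a : LAmb q W) ∈ lSec q W) (a : Fin (n + 1)) : comp q (mk q c hc) a = c a := rfl

/-- the generator on the `a`-th piece -/
def gen (a : Fin (n + 1)) : Γ(one q, q ⁻¹ᵁ Dplus a) :=
  mk q (fun b => coord q b a inf_le_right) fun b c V hb hc => by
    rw [coord_res, coord_res, coord_change q c b a (hc.trans inf_le_right) (hb.trans inf_le_right),
      mul_comm]

/-- the global section `T_j` -/
def T (j : Fin (n + 1)) : Γ(one q, ⊤) :=
  mk q (fun b => coord q b j inf_le_right) fun b c V hb hc => by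
    rw [coord_res, coord_res, coord_change q c b j (hc.trans inf_le_right) (hb.trans inf_le_right),
      mul_comm]

lemma gen_genOn (a : Fin (n + 1)) : GenOn (one q) (gen q a) := by
  intro V hV
  have hVa : V ≤ pc q a V := le_inf le_rfl hV
  have key : ∀ r : Γ(X, V), X.presheaf.map (homOfLE hVa).op (comp q (r • res (one q) hV (gen q a)) a) = r := by
    intro r
    rw [comp_smul, comp_res, gen, comp_mk, coord_res, coord_self, mul_one, map_map]
    change (X.presheaf.map (𝟙 (op V))) r = r
    simp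
  refine ⟨fun r r' h => ?_, fun σ => ⟨X.presheaf.map (homOfLE hVa).op (comp q σ a), one_ext q fun b => ?_⟩⟩
  · rw [← key r, ← key r']
    exact congrArg (fun σ => X.presheaf.map (homOfLE hVa).op (comp q σ a)) h
  · have hb : pc q b V ≤ pc q b V := le_rfl
    have ha : pc q b V ≤ pc q a V := le_inf inf_le_left (inf_le_left.trans hV)
    have h := comp_change q σ ha hb
    rw [comp_smul, comp_res, gen, comp_mk, coord_res, map_map]
    refine Eq.trans ?_ (h.symm.trans ?_)
    · exact mul_comm _ _
    · change (X.presheaf.map (𝟙 (op (pc q b V)))) _ = _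
      simp

lemma T_res (a j : Fin (n + 1)) :
    res (one q) (le_top : q ⁻¹ᵁ Dplus a ≤ ⊤) (T q j) = coord q a j le_rfl • gen q a := by
  refine one_ext q fun b => ?_
  rw [comp_res, T, comp_mk, comp_smul, gen, comp_mk, coord_res, coord_res,
    coord_change q b a j inf_le_right inf_le_left, mul_comm]

theorem one_isInvertible : PicF.IsInvertible (one q) := by
  intro x
  obtain ⟨a, ha⟩ := Opens.mem_iSup.mp (show x ∈ ⨆ a, q ⁻¹ᵁ Dplus a by
    rw [← Scheme.Hom.preimage_iSup, iSup_Dplus]; trivial)
  refine ⟨q ⁻¹ᵁ Dplus a, ha, ⟨?_⟩⟩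
  have hle : (q ⁻¹ᵁ Dplus a).ι ''ᵁ ⊤ ≤ q ⁻¹ᵁ Dplus a := by
    rw [Scheme.Opens.ι_image_top]
  have := isIso_unitHom _ ((gen_genOn q a).restrict (q ⁻¹ᵁ Dplus a).ι ⊤ hle)
  exact (asIso (QCohLib.unitHom ((one q).restrict (q ⁻¹ᵁ Dplus a).ι) (res (one q) hle (gen q a)))).symm

end AmpleLib

end
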